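import Groth.Prelude.Def_DRing2
import Mathlib.Algebra.Homology.DerivedCategory.KProjective
import Mathlib.Algebra.Category.ModuleCat.Projective
import Mathlib.LinearAlgebra.Trace
import Mathlib.Algebra.Ring.NegOnePow
import Mathlib.Data.Int.Interval
/-! # Alternating trace on bounded complexes of finite free modules

* `Groth.Misc1.DTrace.altTrace_eq_of_homotopy`: homotopic endomorphisms have the same alternating trace.
* `Groth.Misc1.DTrace.exists_map_eq`, `homotopyOfMapEq`: `Hom` out of a K-projective complex in `D` is `Hom` in `K`.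
-/

universe u

open CategoryTheory CategoryTheory.Limits

namespace Groth.Misc1.DTrace

variable {Λ : Type u} [CommRing Λ]

/-- The alternating trace. -/
noncomputable def altTrace (P : DRing.Cx Λ) (a b : ℤ) (f : P ⟶ P) : Λ :=
  ∑ i ∈ Finset.Icc a b, ((i.negOnePow : ℤˣ) : ℤ) • LinearMap.trace Λ (P.X i) (f.f i).hom

theorem altTrace_eq_of_homotopy {P : DRing.Cx Λ} {a b : ℤ} (hP : DRing.VanishesOutside P a b)
    (hPf : DRing.TermwiseFiniteFree P) {x y : P ⟶ P} (h : Homotopy x y) :
    altTrace P a b x = altTrace P a b y := by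
  have hfin : ∀ i, Module.Finite Λ (P.X i) := fun i => (hPf i).1
  have hfree : ∀ i, Module.Free Λ (P.X i) := fun i => (hPf i).2
  let S : ℤ → Λ := fun i =>
    LinearMap.trace Λ (P.X i) (P.d i (i + 1) ≫ h.hom (i + 1) i).hom
  let u : ℤ → Λ := fun i => ((i.negOnePow : ℤˣ) : ℤ) • S i
  have hu : ∀ i, i < a ∨ b ≤ i → u i = 0 := by
    intro i hi
    have hd : P.d i (i + 1) = 0 := by
      rcases hi with hi | hi
      · exact (hP i (Or.inl hi)).eq_of_src _ _
      · exact (hP (i + 1) (Or.inr (by omega))).eq_of_tgt _ _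
    simp [u, S, hd]
  have key : ∀ i, ((i.negOnePow : ℤˣ) : ℤ) • LinearMap.trace Λ (P.X i) (x.f i).hom =
      ((i.negOnePow : ℤˣ) : ℤ) • LinearMap.trace Λ (P.X i) (y.f i).hom + (u i - u (i - 1)) := by
    intro i
    rw [h.comm i, dNext_eq h.hom (show (ComplexShape.up ℤ).Rel i (i + 1) from rfl),
      prevD_eq h.hom (show (ComplexShape.up ℤ).Rel (i - 1) i by simp)]
    have hsw : LinearMap.trace Λ (P.X i) (h.hom i (i - 1) ≫ P.d (i - 1) i).hom = S (i - 1) := by
      rw [ModuleCat.hom_comp, LinearMap.trace_comp_comm', ← ModuleCat.hom_comp]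
      simp only [S]
      congr! 5 <;> simp
    rw [ModuleCat.hom_add, ModuleCat.hom_add, map_add, map_add, hsw]
    simp only [u, S, Int.negOnePow_sub, Int.negOnePow_one, Units.val_mul, Units.val_neg, Units.val_one,
      mul_neg, mul_one, neg_smul, smul_add, sub_neg_eq_add]
    abel
  unfold altTrace
  rw [Finset.sum_congr rfl (fun i _ => key i), Finset.sum_add_distrib, Finset.sum_sub_distrib, add_eq_left,
    sub_eq_zero]
  have h1 : ∑ i ∈ Finset.Icc a b, u i = ∑ i ∈ Finset.Icc (a - 1) b, u i :=
    Finset.sum_subset (fun i => by simp only [Finset.mem_Icc]; omega) fun i hi hi' =>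
      hu i (by simp only [Finset.mem_Icc] at hi hi'; omega)
  have h2 : ∑ i ∈ Finset.Icc a b, u (i - 1) = ∑ i ∈ Finset.Icc (a - 1) b, u i := by
    rw [← Finset.sum_subset (show Finset.Icc (a - 1) (b - 1) ⊆ Finset.Icc (a - 1) b from
      fun i => by simp only [Finset.mem_Icc]; omega)
      fun i hi hi' => hu i (by simp only [Finset.mem_Icc] at hi hi'; omega)]
    exact Finset.sum_nbij' (· - 1) (· + 1) (fun i => by simp only [Finset.mem_Icc]; omega)
      (fun i => by simp only [Finset.mem_Icc]; omega) (fun i _ => by simp) (fun i _ => by simp) (fun i _ => rfl)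
  rw [h1, h2]

theorem isKProjective {P : DRing.Cx Λ} {a b : ℤ} (hP : DRing.VanishesOutside P a b)
    (hPf : DRing.TermwiseFiniteFree P) : CochainComplex.IsKProjective P := by
  have : ∀ n, Projective (P.X n) := fun n =>
    have := (hPf n).2
    ModuleCat.projective_of_free (Module.Free.chooseBasis Λ (P.X n))
  have : CochainComplex.IsStrictlyLE P b := by
    rw [CochainComplex.isStrictlyLE_iff]
    exact fun i hi => hP i (Or.inr hi)
  exact CochainComplex.isKProjective_of_projective P b

variable [HasDerivedCategory (ModuleCat.{u} Λ)] {P Q : DRing.Cx Λ}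

theorem exists_map_eq [CochainComplex.IsKProjective P]
    (α : DerivedCategory.Q.obj P ⟶ DerivedCategory.Q.obj Q) :
    ∃ φ : P ⟶ Q, DerivedCategory.Q.map φ = α := by
  let e := DerivedCategory.quotientCompQhIso (ModuleCat.{u} Λ)
  obtain ⟨g, hg⟩ := (CochainComplex.IsKProjective.Qh_map_bijective P
    ((HomotopyCategory.quotient _ _).obj Q)).surjective (e.hom.app P ≫ α ≫ e.inv.app Q)
  obtain ⟨φ, rfl⟩ := (HomotopyCategory.quotient _ _).map_surjective g
  refine ⟨φ, ?_⟩
  have h1 := e.hom.naturality φ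
  rw [Functor.comp_map, hg] at h1
  simpa [cancel_epi] using h1.symm

theorem homotopy_of_map_eq [CochainComplex.IsKProjective P] {φ ψ : P ⟶ Q}
    (h : DerivedCategory.Q.map φ = DerivedCategory.Q.map ψ) : Nonempty (Homotopy φ ψ) := by
  let e := DerivedCategory.quotientCompQhIso (ModuleCat.{u} Λ)
  refine ⟨HomotopyCategory.homotopyOfEq _ _ ((CochainComplex.IsKProjective.Qh_map_bijective P
    ((HomotopyCategory.quotient _ _).obj Q)).injective ?_)⟩
  rw [← cancel_mono (e.hom.app Q)]
  have h1 := e.hom.naturality φ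
  have h2 := e.hom.naturality ψ
  simp only [Functor.comp_map] at h1 h2
  exact h1.trans ((congrArg _ h).trans h2.symm)

end Groth.Misc1.DTrace
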